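import Groth.Agent.TameAbh.Dominate
import Mathlib

/-!
Elliptic curves with integral `j`-invariant have potentially good reduction (Legendre / Deuring forms).
-/

set_option autoImplicit false
set_option linter.style.haveILetI false

universe u

namespace Groth.Agent.PotGood

open WeierstrassCurve Polynomial IsDiscreteValuationRing

section Model

variable {L Γ : Type*} [Field L] [IsAlgClosed L] [LinearOrderedCommGroupWithZero Γ]

/-- In a residue characteristic other than two: the Legendre family. -/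
theorem legendre (j : L) (h2 : (2 : L) ≠ 0) :
    ∃ l : L, 256 * (l ^ 2 - l + 1) ^ 3 - j * l ^ 2 * (l - 1) ^ 2 = 0 := by
  obtain ⟨l, hl⟩ := IsAlgClosed.exists_root
    (C (256 : L) * (X ^ 2 - X + 1) ^ 3 - C j * X ^ 2 * (X - 1) ^ 2) (by
      have : (256 : L) ≠ 0 := by
        rw [show (256 : L) = 2 ^ 8 by norm_num]; exact pow_ne_zero 8 h2
      intro h0
      have h1 : (C (256 : L) * (X ^ 2 - X + 1) ^ 3 - C j * X ^ 2 * (X - 1) ^ 2).coeff 6 = 256 := by
        rw [show C (256 : L) * (X ^ 2 - X + 1) ^ 3 - C j * X ^ 2 * (X - 1) ^ 2 =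
          C 256 * X ^ 6 + C (-768) * X ^ 5 + C (256 * 6 - j) * X ^ 4 + C (2 * j - 256 * 7) * X ^ 3 +
            C (256 * 6 - j) * X ^ 2 + C (-768) * X + C 256 by
          simp only [map_sub, map_neg, map_mul, map_ofNat]; ring]
        simp only [coeff_add, coeff_C_mul, coeff_X_pow, coeff_X, coeff_C]
        norm_num
      rw [eq_C_of_degree_eq_zero h0, coeff_C] at h1
      exact this h1.symm)
  refine ⟨l, ?_⟩
  simpa [IsRoot.def] using hl

theorem deuring (j : L) : ∃ a : L, a ^ 3 * (a ^ 3 - 24) ^ 3 - j * (a ^ 3 - 27) = 0 := by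
  obtain ⟨a, ha⟩ := IsAlgClosed.exists_root
    (X ^ 3 * (X ^ 3 - C (24 : L)) ^ 3 - C j * (X ^ 3 - C 27)) (by
      intro h0
      have h1 : (X ^ 3 * (X ^ 3 - C (24 : L)) ^ 3 - C j * (X ^ 3 - C 27)).coeff 12 = 1 := by
        rw [show X ^ 3 * (X ^ 3 - C (24 : L)) ^ 3 - C j * (X ^ 3 - C 27) =
          X ^ 12 + C (-72) * X ^ 9 + C (1728) * X ^ 6 + C (-13824 - j) * X ^ 3 + C (27 * j) by
          simp only [map_sub, map_neg, map_mul, map_ofNat]; ring]
        simp only [coeff_add, coeff_C_mul, coeff_X_pow, coeff_C]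
        norm_num
      rw [eq_C_of_degree_eq_zero h0, coeff_C] at h1
      exact zero_ne_one h1)
  refine ⟨a, ?_⟩
  simpa [IsRoot.def] using ha

variable (v : Valuation L Γ)

omit [IsAlgClosed L] in
/-- A root of an equation whose leading term dominates outside the unit ball is integral. -/
theorem le_one_of_pow {x y : L} {n : ℕ} (hn : v (x ^ n) = v y) (h : 1 < v x → v y < v (x ^ n)) : v x ≤ 1 := by
  by_contra hh
  exact (h (not_le.1 hh)).ne hn.symm

/-- A model with integral coefficients and unit discriminant, with given integral `j`. -/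
theorem exists_model (j : L) (hj : v j ≤ 1) (h : v (2 : L) = 1 ∨ v (3 : L) = 1) :
    ∃ (E : WeierstrassCurve L) (_ : E.IsElliptic), E.j = j ∧ v E.Δ = 1 ∧
      v E.a₁ ≤ 1 ∧ v E.a₂ ≤ 1 ∧ v E.a₃ ≤ 1 ∧ v E.a₄ ≤ 1 ∧ v E.a₆ ≤ 1 := by
  have hnat : ∀ n : ℕ, v (n : L) ≤ 1 := fun n => by
    induction n with
    | zero => simp
    | succ n ih => rw [Nat.cast_succ]; exact (v.map_add _ _).trans (max_le ih (by simp))
  rcases h with h2 | h3
  · have h20 : (2 : L) ≠ 0 := fun h0 => by rw [h0, map_zero] at h2; exact zero_ne_one h2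
    obtain ⟨l, hl⟩ := legendre j h20
    have h256 : v (256 : L) = 1 := by
      rw [show (256 : L) = 2 ^ 8 by norm_num, map_pow, h2, one_pow]
    have e : 256 * (l ^ 2 - l + 1) ^ 3 = j * (l * (l - 1)) ^ 2 := by linear_combination hl
    have hl1 : v l ≤ 1 := by
      by_contra hh
      push Not at hh
      have e1 : v (l - 1) = v l := v.map_sub_eq_of_lt_left (by rw [map_one]; exact hh)
      have e2 : v (l ^ 2 - l + 1) = v l ^ 2 := by
        rw [show l ^ 2 - l + 1 = l * (l - 1) + 1 by ring,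
          v.map_add_eq_of_lt_left (by rw [map_one, map_mul, e1]; exact one_lt_mul_of_lt_of_le hh hh.le),
          map_mul, e1, sq]
      have h3 := congrArg v e
      rw [map_mul, map_mul, map_pow, map_pow, map_mul, h256, one_mul, e2, e1, ← sq, ← pow_mul, ← pow_mul] at h3
      have : v j * v l ^ (2 * 2) ≤ v l ^ (2 * 2) := mul_le_of_le_one_left' hj
      rw [← h3] at this
      exact not_lt.2 this (pow_lt_pow_right₀ hh (by norm_num))
    have hl1' : v (l - 1) ≤ 1 := v.map_sub_le hl1 (by rw [map_one])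
    have hu : v (l * (l - 1)) = 1 := by
      refine le_antisymm (by rw [map_mul]; exact mul_le_one' hl1 hl1') (not_lt.1 fun hh => ?_)
      have e2 : v (l ^ 2 - l + 1) = 1 := by
        rw [show l ^ 2 - l + 1 = 1 + l * (l - 1) by ring]
        exact v.map_one_add_of_lt hh
      have h3 := congrArg v e
      rw [map_mul, map_mul, map_pow, map_pow, h256, one_mul, e2, one_pow] at h3
      exact (mul_lt_one_of_nonneg_of_lt_one_right hj zero_le (pow_lt_one₀ zero_le hh two_ne_zero)).ne h3.symm
    let E : WeierstrassCurve L := ⟨0, -(1 + l), 0, l, 0⟩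
    have hΔ : E.Δ = 16 * (l * (l - 1)) ^ 2 := by
      simp only [E, WeierstrassCurve.Δ, b₂, b₄, b₆, b₈]; ring
    have hΔ1 : v E.Δ = 1 := by
      rw [hΔ, show (16 : L) = 2 ^ 4 by norm_num, map_mul, map_pow, map_pow, h2, hu, one_pow, one_pow, one_mul]
    haveI : E.IsElliptic := ⟨isUnit_iff_ne_zero.2 fun h0 => by rw [h0, map_zero] at hΔ1; exact zero_ne_one hΔ1⟩
    refine ⟨E, inferInstance, ?_, hΔ1, ?_, ?_, ?_, hl1, ?_⟩
    · rw [WeierstrassCurve.j, Units.inv_mul_eq_iff_eq_mul, WeierstrassCurve.coe_Δ', hΔ]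
      simp only [E, c₄, b₂, b₄]
      linear_combination 16 * hl
    all_goals simp only [E, v.map_neg, map_zero, zero_le]
    exact v.map_add_le (by rw [map_one]) hl1
  · have h24 : v (24 : L) ≤ 1 := by exact_mod_cast hnat 24
    have h27 : v (27 : L) = 1 := by rw [show (27 : L) = 3 ^ 3 by norm_num, map_pow, h3, one_pow]
    obtain ⟨a, ha⟩ := deuring j
    have e : a ^ 3 * (a ^ 3 - 24) ^ 3 = j * (a ^ 3 - 27) := by linear_combination ha
    have ha3 : v (a ^ 3) ≤ 1 := by
      by_contra hh
      push Not at hh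
      have e1 : v (a ^ 3 - 24) = v (a ^ 3) := v.map_sub_eq_of_lt_left (h24.trans_lt hh)
      have e2 : v (a ^ 3 - 27) = v (a ^ 3) := v.map_sub_eq_of_lt_left (h27.trans_lt hh)
      have h4 := congrArg v e
      rw [map_mul, map_mul, map_pow v (a ^ 3 - 24), e1, e2, ← pow_succ'] at h4
      have : v j * v (a ^ 3) ≤ v (a ^ 3) := mul_le_of_le_one_left' hj
      rw [← h4] at this
      exact not_lt.2 this (lt_self_pow₀ hh (by norm_num))
    have hu : v (a ^ 3 - 27) = 1 := by
      refine le_antisymm (v.map_sub_le ha3 h27.le) (not_lt.1 fun hh => ?_)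
      have e1 : v (a ^ 3) = 1 := by
        rw [show a ^ 3 = 27 + (a ^ 3 - 27) by ring, v.map_add_eq_of_lt_left (h27.symm ▸ hh), h27]
      have e2 : v (a ^ 3 - 24) = 1 := by
        rw [show a ^ 3 - 24 = 3 + (a ^ 3 - 27) by ring, v.map_add_eq_of_lt_left (h3.symm ▸ hh), h3]
      have h4 := congrArg v e
      rw [map_mul, map_mul, map_pow v (a ^ 3 - 24), e1, e2, one_pow, one_mul] at h4
      exact (mul_lt_one_of_nonneg_of_lt_one_right hj zero_le hh).ne h4.symm
    have ha1 : v a ≤ 1 := by
      rw [map_pow] at ha3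
      exact (pow_le_one_iff_of_nonneg zero_le three_ne_zero).1 ha3
    let E : WeierstrassCurve L := ⟨a, 0, 1, 0, 0⟩
    have hΔ : E.Δ = a ^ 3 - 27 := by
      simp only [E, WeierstrassCurve.Δ, b₂, b₄, b₆, b₈]; ring
    haveI : E.IsElliptic := ⟨isUnit_iff_ne_zero.2 fun h0 => by
      rw [← hΔ, h0, map_zero] at hu; exact zero_ne_one hu⟩
    refine ⟨E, inferInstance, ?_, hΔ ▸ hu, ha1, ?_, ?_, ?_, ?_⟩
    · rw [WeierstrassCurve.j, Units.inv_mul_eq_iff_eq_mul, WeierstrassCurve.coe_Δ', hΔ]
      simp only [E, c₄, b₂, b₄]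
      linear_combination ha
    all_goals simp only [E, map_zero, map_one, zero_le, le_refl]

end Model

section Descent

variable {R : Type u} [CommRing R] [IsDomain R] [IsDiscreteValuationRing R] {K : Type u} [Field K]
  [Algebra R K] [IsFractionRing R K]

/-- A minimal equation of a curve with an integral model of unit discriminant has good reduction. -/
theorem good_of_model {S L : Type u} [CommRing S] [IsDomain S] [IsDiscreteValuationRing S] [Field L]
    [Algebra S L] [IsFractionRing S L] (W : WeierstrassCurve L) (C : VariableChange L) [IsIntegral S (C • W)]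
    (hΔ : (maximalIdeal S).valuation L (C • W).Δ = 1) : (W.minimal S).HasGoodReduction S := by
  refine ⟨?_⟩
  let v := (maximalIdeal S).valuation L
  obtain ⟨C₀, hC₀⟩ : ∃ C₀ : VariableChange L, W.minimal S = C₀ • W := ⟨_, rfl⟩
  have hj : (C * C₀⁻¹) • W.minimal S = C • W := by rw [hC₀, ← mul_smul, inv_mul_cancel_right]
  obtain ⟨r, hr⟩ := Δ_integral_of_isIntegral S (W.minimal S)
  have hle : v (W.minimal S).Δ ≤ 1 := by
    rw [← hr]; exact (maximalIdeal S).valuation_le_one r
  refine le_antisymm hle ?_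
  have hmax := (IsMinimal.val_Δ_maximal (R := S) (W := W.minimal S)).2
    (j := C * C₀⁻¹) (show IsIntegral S ((C * C₀⁻¹) • W.minimal S) from hj.symm ▸ ‹_›)
  simp only [one_smul, hj, ← Subtype.coe_le_coe, valuation_Δ_aux_eq_of_isIntegral, hΔ] at hmax
  exact hmax hle

theorem iff_potentiallyGood (W : WeierstrassCurve K) [W.IsElliptic] :
    (∃ r : R, algebraMap R K r = W.j) ↔
      ∃ (L : Type u) (_ : Field L) (_ : Algebra K L) (_ : FiniteDimensional K L) (RL : Type u)
        (_ : CommRing RL) (_ : IsDomain RL) (_ : IsDiscreteValuationRing RL) (_ : Algebra RL L)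
        (_ : IsFractionRing RL L) (φ : R →+* RL), IsLocalHom φ ∧
        (∀ r : R, algebraMap K L (algebraMap R K r) = algebraMap RL L (φ r)) ∧
        ((W.baseChange L).minimal RL).HasGoodReduction RL := by
  constructor
  · rintro ⟨r, hr⟩
    let Ω := AlgebraicClosure K
    let g : R →+* Ω := (algebraMap K Ω).comp (algebraMap R K)
    have hg : Function.Injective g :=
      (algebraMap K Ω).injective.comp (IsFractionRing.injective R K)
    obtain ⟨V, hV⟩ := (LocalSubring.range g).exists_le_valuationSubring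
    have hgV : ∀ a, g a ∈ V := fun a => hV.1 ⟨a, rfl⟩
    let i : R →+* V := g.codRestrict V hgV
    haveI : IsLocalHom i := by
      refine ⟨fun a ha => ?_⟩
      have h1 : IsUnit (g.rangeRestrict a) := hV.2.map_nonunit _ ha
      obtain ⟨⟨b, c, rfl⟩, hb⟩ := isUnit_iff_exists_inv.1 h1
      refine IsUnit.of_mul_eq_one c (hg ?_)
      rw [map_mul, map_one]
      exact congrArg Subtype.val hb
    have hle : ∀ a, V.valuation (g a) ≤ 1 := fun a => (V.valuation_le_one_iff _).2 (hgV a)
    have hunit : ∀ a, IsUnit a → V.valuation (g a) = 1 := fun a ha =>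
      ((V.valuation_eq_one_iff ⟨g a, hgV a⟩).1 (ha.map i))
    have h23 : V.valuation (2 : Ω) = 1 ∨ V.valuation (3 : Ω) = 1 := by
      rcases IsLocalRing.isUnit_or_isUnit_of_add_one (a := (3 : R)) (b := -2) (by norm_num) with h | h
      · exact Or.inr (by rw [← map_ofNat g 3]; exact hunit _ h)
      · exact Or.inl (by rw [← map_ofNat g 2]; exact hunit _ ((IsUnit.neg_iff _).1 h))
    obtain ⟨E, hE, hEj, hΔ, h1, h2, h3, h4, h6⟩ := exists_model V.valuation (g r) (hle r) h23
    obtain ⟨C, hC⟩ := exists_variableChange_of_j_eq (W.map (algebraMap K Ω)) E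
      (by rw [map_j, ← hr, hEj]; rfl)
    let s : Set Ω := {(C.u : Ω), C.r, C.s, C.t}
    let L := IntermediateField.adjoin K s
    haveI : FiniteDimensional K L := IntermediateField.finiteDimensional_adjoin
      fun x _ => Algebra.IsIntegral.isIntegral x
    have hs : ∀ x ∈ s, x ∈ L := fun x hx => IntermediateField.subset_adjoin K s hx
    let VL : ValuationSubring L := V.comap (algebraMap L Ω)
    let φ : R →+* VL := ((algebraMap K L).comp (algebraMap R K)).codRestrict VL fun a => hgV a
    haveI : IsLocalHom φ := ⟨fun a ha => isUnit_of_map_unit i a (by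
      obtain ⟨b, hb⟩ := ha.exists_right_inv
      exact IsUnit.of_mul_eq_one ⟨algebraMap L Ω b, b.2⟩
        (Subtype.ext (congrArg (fun t : VL => algebraMap L Ω t) hb)))⟩
    have hVL : EtRam.Dominates R ((algebraMap K L).comp (algebraMap R K)) VL :=
      TameAbh.dominates_of_isLocalHom _ VL φ (hi := fun _ => rfl)
    haveI : IsDiscreteValuationRing VL := TameAbh.isDVR_of_dominates VL hVL
    let C' : VariableChange L :=
      ⟨Units.mk0 ⟨C.u, hs _ (by simp [s])⟩ (fun h0 => C.u.ne_zero (congrArg Subtype.val h0)),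
        ⟨C.r, hs _ (by simp [s])⟩, ⟨C.s, hs _ (by simp [s])⟩, ⟨C.t, hs _ (by simp [s])⟩⟩
    have hEq : (C' • W.baseChange L).map (algebraMap L Ω) = E := by
      rw [← WeierstrassCurve.map_variableChange, ← hC]
      congr 1
      ext <;> rfl
    have hint : IsIntegral VL (C' • W.baseChange L) := by
      apply isIntegral_of_exists_lift VL <;>
        refine ⟨⟨_, ?_⟩, rfl⟩ <;>
        show algebraMap L Ω _ ∈ V <;>
        rw [← V.valuation_le_one_iff]
      · rwa [← hEq, map_a₁] at h1
      · rwa [← hEq, map_a₂] at h2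
      · rwa [← hEq, map_a₃] at h3
      · rwa [← hEq, map_a₄] at h4
      · rwa [← hEq, map_a₆] at h6
    refine ⟨L, inferInstance, inferInstance, inferInstance, VL, inferInstance, inferInstance, inferInstance,
      inferInstance, inferInstance, φ, inferInstance, fun a => rfl, ?_⟩
    refine good_of_model (W.baseChange L) C' ?_
    obtain ⟨d, hd⟩ := Δ_integral_of_isIntegral VL (C' • W.baseChange L)
    rw [← hd]
    refine le_antisymm ((maximalIdeal VL).valuation_le_one d) (not_lt.1 fun hh => ?_)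
    have h0 : ¬IsUnit d := ((maximalIdeal VL).valuation_lt_one_iff_mem d).1 hh
    refine h0 ?_
    have h5 : V.valuation (algebraMap L Ω (d : L)) = 1 := by
      have : (C' • W.baseChange L).Δ = (d : L) := hd.symm
      rw [← this, ← map_Δ, hEq, hΔ]
    have h6' : IsUnit (⟨algebraMap L Ω (d : L), d.2⟩ : V) := (V.valuation_eq_one_iff _).2 h5
    obtain ⟨b, hb⟩ := h6'.exists_right_inv
    have hb' : algebraMap L Ω (d : L)⁻¹ = (b : Ω) := by
      rw [map_inv₀]
      exact inv_eq_of_mul_eq_one_right (congrArg Subtype.val hb)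
    have hd0 : (d : L) ≠ 0 := fun h0' => by rw [h0', map_zero, map_zero] at h5; exact zero_ne_one h5
    exact IsUnit.of_mul_eq_one ⟨(d : L)⁻¹, show algebraMap L Ω _ ∈ V from hb' ▸ b.2⟩
      (Subtype.ext (mul_inv_cancel₀ hd0))
  · rintro ⟨L, _, _, _, RL, _, _, _, _, _, φ, hφ, hcomm, hgood⟩
    let v := (maximalIdeal RL).valuation L
    set M := (W.baseChange L).minimal RL with hMd
    obtain ⟨C₀, hC₀⟩ : ∃ C₀ : VariableChange L, M = C₀ • W.baseChange L := ⟨_, rfl⟩
    haveI : (W.baseChange L).IsElliptic := inferInstanceAs (W.map (algebraMap K L)).IsElliptic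
    haveI : M.IsElliptic := hC₀ ▸ inferInstance
    have hj : M.j = algebraMap K L W.j := by
      simp only [hC₀, variableChange_j, WeierstrassCurve.baseChange, map_j]
    by_contra hne
    push Not at hne
    rcases ValuationRing.isInteger_or_isInteger R W.j with ⟨r, hr⟩ | ⟨r, hr⟩
    · exact hne r hr
    have hj0 : W.j ≠ 0 := fun h0 => hne 0 (by rw [h0, map_zero])
    have hr0 : ¬IsUnit r := fun hu => by
      obtain ⟨u, rfl⟩ := hu
      refine hne ↑u⁻¹ ?_
      rw [map_units_inv, hr, inv_inv]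
    have hφr : v (algebraMap RL L (φ r)) < 1 :=
      ((maximalIdeal RL).valuation_lt_one_iff_mem _).2 fun hu => hr0 (isUnit_of_map_unit φ r hu)
    rw [← hcomm, hr, map_inv₀, map_inv₀, inv_lt_one₀ (zero_lt_iff.2 (by simpa using hj0)), ← hj] at hφr
    obtain ⟨c, hc⟩ : ∃ c, algebraMap RL L c = M.c₄ := ⟨_, integralModel_c₄_eq RL M⟩
    have hΔ0 : M.Δ' = M.Δ := coe_Δ' M
    rw [WeierstrassCurve.j, map_mul, Units.val_inv_eq_inv_val, map_inv₀, coe_Δ',
      hgood.goodReduction, inv_one, one_mul, map_pow, ← hc] at hφr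
    exact not_lt.2 (pow_le_one₀ zero_le ((maximalIdeal RL).valuation_le_one c)) hφr

end Descent

end Groth.Agent.PotGood
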